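import Cfsg.Agent.Classical.Unitary.LangFinite

/-! Two invariant symmetric forms of an automorphism without fixed lines are equivalent in its centralizer. -/

set_option autoImplicit false
set_option linter.unusedSectionVars false

namespace CfsgLib.Classical.Orth

open Module

variable {F W : Type*} [Field F] [Finite F] [AddCommGroup W] [Module F W] [FiniteDimensional F W]

/-- If `A - A⁻¹` is injective, any two non-degenerate symmetric forms invariant under `A` differ by
an automorphism commuting with `A`. -/
theorem exists_centralizer_map_form (β β' : LinearMap.BilinForm F W)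
    (ε : F) (hs : ∀ u v, β u v = ε * β v u) (hs' : ∀ u v, β' u v = ε * β' v u)
    (hn : ∀ u, (∀ v, β u v = 0) → u = 0) (hn' : ∀ u, (∀ v, β' u v = 0) → u = 0)
    (A : W ≃ₗ[F] W) (hA : ∀ u v, β (A u) (A v) = β u v) (hA' : ∀ u v, β' (A u) (A v) = β' u v)
    (hAA : ∀ u, A u = A.symm u → u = 0) :
    ∃ Y : W ≃ₗ[F] W, (∀ u, Y (A u) = A (Y u)) ∧ ∀ u v, β' (Y u) (Y v) = β u v := by
  classical
  have : Finite W := Module.finite_of_finite F
  have : Finite (Module.End F W) := Finite.of_injective _ DFunLike.coe_injective
  have hinj : Function.Injective β := LinearMap.ker_eq_bot.1 (LinearMap.ker_eq_bot'.2 fun u hu =>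
    hn u fun v => by rw [hu, LinearMap.zero_apply])
  let D : W ≃ₗ[F] Module.Dual F W :=
    LinearEquiv.ofInjectiveOfFinrankEq β hinj Subspace.dual_finrank_eq.symm
  have hD : ∀ u v, D u v = β u v := fun _ _ => rfl
  let M : Module.End F W := D.symm.toLinearMap.comp β'
  have hM : ∀ u v, β u (M v) = β' u v := fun u v => by
    rw [hs u (M v), ← hD, show D (M v) = β' v from D.apply_symm_apply _, ← hs' u v]
  let a : Module.End F W := A.toLinearMap
  let a' : Module.End F W := A.symm.toLinearMap
  have hcomm : a * M = M * a := by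
    refine LinearMap.ext fun v => sub_eq_zero.1 (hn _ fun u => ?_)
    rw [hs]
    refine mul_eq_zero_of_right _ ?_
    rw [map_sub, sub_eq_zero, ← A.apply_symm_apply u]
    show β _ (A (M v)) = β _ (M (A v))
    rw [hA, hM, hM, hA']
  have haa' : a * a' = 1 := LinearMap.ext A.apply_symm_apply
  have ha'a : a' * a = 1 := LinearMap.ext A.symm_apply_apply
  have hcomm' : a' * M = M * a' := by
    calc a' * M = a' * (M * a) * a' := by rw [mul_assoc, mul_assoc, haa', mul_one]
      _ = a' * (a * M) * a' := by rw [hcomm]
      _ = M * a' := by rw [← mul_assoc, ha'a, one_mul]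
  set R := Algebra.adjoin F ({a, a', M} : Set (Module.End F W)) with hR
  have hc : ∀ x ∈ ({a, a', M} : Set (Module.End F W)), ∀ y ∈ ({a, a', M} : Set (Module.End F W)), x * y = y * x := by
    simp only [Set.mem_insert_iff, Set.mem_singleton_iff]
    rintro x (rfl | rfl | rfl) y (rfl | rfl | rfl)
    all_goals first
      | rfl | rw [haa', ha'a] | exact hcomm | exact hcomm.symm | exact hcomm' | exact hcomm'.symm
  letI : CommRing R :=
    { (inferInstance : Ring R) with
      mul_comm := fun x y => Subtype.ext (by
        refine Algebra.commute_of_mem_adjoin_of_forall_mem_commute (s := {a, a', M}) y.2 fun g hg => ?_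
        exact (Algebra.commute_of_mem_adjoin_of_forall_mem_commute (a := g) (s := {a, a', M}) x.2
          fun g' hg' => hc g hg g' hg').symm) }
  let P : Module.End F W → Module.End F W → Prop := fun x y => ∀ u v, β (x u) v = β u (y v)
  have huniq : ∀ x y y', P x y → P x y' → y = y' := fun x y y' h h' => LinearMap.ext fun v =>
    sub_eq_zero.1 (hn _ fun u => by rw [hs, map_sub, ← h, ← h', sub_self, mul_zero])
  have hsym : ∀ x y, P x y → P y x := fun x y h u v => by rw [hs (y u) v, ← h, ← hs u (x v)]
  have hex : ∀ x : R, ∃ y : R, P x y := by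
    rintro ⟨x, hx⟩
    induction hx using Algebra.adjoin_induction with
    | mem g hg =>
      simp only [Set.mem_insert_iff, Set.mem_singleton_iff] at hg
      rcases hg with rfl | rfl | rfl
      · exact ⟨⟨a', Algebra.subset_adjoin (by simp)⟩, fun u v => by
          show β (A u) v = β u (A.symm v)
          conv_lhs => rw [← A.apply_symm_apply v, hA]⟩
      · exact ⟨⟨a, Algebra.subset_adjoin (by simp)⟩, fun u v => by
          show β (A.symm u) v = β u (A v)
          conv_rhs => rw [← A.apply_symm_apply u, hA]⟩
      · exact ⟨⟨M, Algebra.subset_adjoin (by simp)⟩, fun u v => by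
          show β (M u) v = β u (M v)
          rw [hs (M u) v, hM, hM, ← hs' u v]⟩
    | algebraMap r => exact ⟨⟨_, algebraMap_mem R r⟩, fun u v => by simp⟩
    | add x y hx hy ihx ihy =>
      obtain ⟨x', hx'⟩ := ihx
      obtain ⟨y', hy'⟩ := ihy
      exact ⟨x' + y', fun u v => by simp [hx' u v, hy' u v]⟩
    | mul x y hx hy ihx ihy =>
      obtain ⟨x', hx'⟩ := ihx
      obtain ⟨y', hy'⟩ := ihy
      exact ⟨y' * x', fun u v => by
        show β (x (y u)) v = β u ((y' : Module.End F W) ((x' : Module.End F W) v))
        rw [← hy', ← hx']⟩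
  choose t ht using hex
  have ht' : ∀ x y : R, P x y → t x = y := fun x y h => Subtype.ext (huniq _ _ _ (ht x) h)
  let τ : R →+* R :=
    { toFun := t
      map_one' := ht' _ _ fun u v => rfl
      map_mul' := fun x y => by
        rw [mul_comm (t x)]
        refine ht' _ _ fun u v => ?_
        show β ((x : Module.End F W) ((y : Module.End F W) u)) v = _
        rw [ht x, ht y]; rfl
      map_zero' := ht' _ _ fun u v => by simp
      map_add' := fun x y => ht' _ _ fun u v => by simp [ht x u v, ht y u v] }
  have hττ : ∀ x, τ (τ x) = x := fun x => ht' _ _ (hsym _ _ (ht x))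
  have : Finite R := inferInstanceAs (Finite {x // x ∈ R})
  have hunit : ∀ x : R, (∀ u, (x : Module.End F W) u = 0 → u = 0) → IsUnit x := fun x hx => by
    have h1 : Function.Injective (fun y : R => x * y) := fun y y' h => Subtype.ext (LinearMap.ext fun u =>
      sub_eq_zero.1 (hx _ (by
        rw [map_sub, sub_eq_zero]
        exact LinearMap.congr_fun (congrArg Subtype.val h) u)))
    obtain ⟨y, hy⟩ := Finite.surjective_of_injective h1 1
    exact IsUnit.of_mul_eq_one y hy
  set ω : R := ⟨a, Algebra.subset_adjoin (by simp)⟩ with hω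
  have hτω : τ ω = ⟨a', Algebra.subset_adjoin (by simp)⟩ := ht' _ _ fun u v => by
    show β (A u) v = β u (A.symm v)
    conv_lhs => rw [← A.apply_symm_apply v, hA]
  have hωu : IsUnit (τ ω - ω) := hunit _ fun u hu => hAA u (by
    rw [hτω] at hu
    exact (sub_eq_zero.1 hu).symm)
  set m : R := ⟨M, Algebra.subset_adjoin (by simp)⟩ with hm
  have hmu : IsUnit m := hunit _ fun u hu => hn' u fun v => by
    rw [hs' u v, ← hM, show M u = 0 from hu, map_zero, mul_zero]
  have hτm : τ m = m := ht' _ _ fun u v => by
    show β (M u) v = β u (M v)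
    rw [hs (M u) v, hM, hM, ← hs' u v]
  obtain ⟨z, hz, hzm⟩ := CfsgLib.Unitary.exists_unit_norm_eq τ hττ hωu hτm hmu
  obtain ⟨zu, rfl⟩ := hz
  set y : R := ((zu⁻¹ : Rˣ) : R) with hy
  have hy1 : τ y * (m * y) = 1 := by
    rw [← hzm]
    calc τ y * (τ (zu : R) * (zu : R) * y) = τ (y * (zu : R)) * ((zu : R) * y) := by rw [map_mul]; ring
      _ = 1 := by rw [hy, Units.inv_mul, Units.mul_inv, map_one, one_mul]
  let Y : W ≃ₗ[F] W := LinearEquiv.ofLinearMap (y : Module.End F W) ((zu : R) : Module.End F W)
    (congrArg Subtype.val (zu.inv_mul : y * (zu : R) = 1)) (congrArg Subtype.val (zu.mul_inv : (zu : R) * y = 1))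
  refine ⟨Y, fun u => LinearMap.congr_fun (congrArg Subtype.val (mul_comm y ω)) u, fun u v => ?_⟩
  show β' ((y : Module.End F W) u) ((y : Module.End F W) v) = β u v
  rw [← hM, ht y]
  exact congrArg (β u) (LinearMap.congr_fun (congrArg Subtype.val hy1) v)

end CfsgLib.Classical.Orth
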