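import Cfsg.Agent.Classical.Orth.Residual
import Cfsg.Agent.Classical.Orth.InvariantForms
import Cfsg.Agent.LinAlg.Witt.Mat

/-! Semisimple isometries of odd order: conjugacy is detected in the general linear group. -/

set_option autoImplicit false
set_option linter.unusedSectionVars false

namespace CfsgLib.Classical.Orth

open Cfsg.Geo CfsgLib.OrthGeo Module
open scoped Matrix MatrixGroups

variable {ι : Type} [Fintype ι] [DecidableEq ι] {F : Type*} [Field F] [Finite F]
variable {Q : (ι → F) → F}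
variable (hQ : IsNondegenerateQuadraticForm Q)
include hQ

omit hQ [Finite F] in
/-- A semisimple element splits the space into residual and fixed space. -/
lemma fixedSpace_inf_residual {a : GL ι F} {k : ℕ} (hk : a ^ k = 1) (hkF : (k : F) ≠ 0) :
    residual a ⊓ fixedSpace a = ⊥ := by
  rw [eq_bot_iff]
  rintro u ⟨hu, hf⟩
  rw [SetLike.mem_coe, mem_residual] at hu
  obtain ⟨x, rfl⟩ := hu
  rw [SetLike.mem_coe, mem_fixedSpace] at hf
  have h : ∀ i : ℕ, ((a ^ i : GL ι F) : Matrix ι ι F) *ᵥ x = x - (i : F) • (x - (a : Matrix ι ι F) *ᵥ x) := by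
    intro i
    induction i with
    | zero => simp
    | succ i ih =>
      rw [pow_succ', Units.val_mul, ← Matrix.mulVec_mulVec, ih, Matrix.mulVec_sub, Matrix.mulVec_smul, hf]
      push_cast
      rw [add_smul, one_smul]
      abel
  have h1 := h k
  rw [hk, Units.val_one, Matrix.one_mulVec, eq_comm, sub_eq_self] at h1
  exact (Submodule.mem_bot F).2 ((smul_eq_zero.1 h1).resolve_left hkF)

/-- Two isometries of odd order prime to the characteristic that are conjugate in `GL` are conjugate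
by an isometry. -/
theorem exists_isometry_conj_of_conj {a b x : GL ι F} (ha : a ∈ Cfsg.isometryGroup F Q)
    (hb : b ∈ Cfsg.isometryGroup F Q) {k : ℕ} (hk : a ^ k = 1) (hodd : Odd k) (hkF : (k : F) ≠ 0)
    (hx : x * a = b * x) : ∃ g ∈ Cfsg.isometryGroup F Q, g * a = b * g := by
  classical
  have hbk : b ^ k = 1 := by
    have hb' : b = x * a * x⁻¹ := by rw [hx, mul_inv_cancel_right]
    rw [hb', conj_pow, hk, mul_one, mul_inv_cancel]
  have hmul : ∀ (g h : GL ι F) (v : ι → F), ((g * h : GL ι F) : Matrix ι ι F) *ᵥ v =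
      (g : Matrix ι ι F) *ᵥ ((h : Matrix ι ι F) *ᵥ v) := fun g h v => by
    rw [Units.val_mul, Matrix.mulVec_mulVec]
  have hxa : ∀ v, (x : Matrix ι ι F) *ᵥ ((a : Matrix ι ι F) *ᵥ v) = (b : Matrix ι ι F) *ᵥ ((x : Matrix ι ι F) *ᵥ v) :=
    fun v => by rw [← hmul, hx, hmul]
  have hnd : ∀ {c : GL ι F}, c ∈ Cfsg.isometryGroup F Q → c ^ k = 1 → ∀ u ∈ residual c,
      (∀ v ∈ residual c, bform hQ u v = 0) → u = 0 := by
    intro c hc hck u hu h
    refine (Submodule.mem_bot F).1 (fixedSpace_inf_residual hck hkF ▸ ⟨hu, ?_⟩)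
    rw [SetLike.mem_coe, fixedSpace_eq_perp hQ hc, mem_perp' hQ]
    exact h
  set W := residual a with hW
  have hmemW : ∀ (c : GL ι F), c * a = a * c → ∀ u ∈ W, (c : Matrix ι ι F) *ᵥ u ∈ W := by
    intro c hc u hu
    obtain ⟨v, rfl⟩ := mem_residual.1 hu
    rw [Matrix.mulVec_sub, ← hmul, hc, hmul]
    exact sub_mem_residual a _
  let A : W ≃ₗ[F] W := LinearEquiv.ofLinearMap
    ((Matrix.mulVecLin (a : Matrix ι ι F)).restrict (hmemW a rfl))
    ((Matrix.mulVecLin ((a⁻¹ : GL ι F) : Matrix ι ι F)).restrict (hmemW a⁻¹ (by group)))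
    (LinearMap.ext fun u => Subtype.ext (by
      show (a : Matrix ι ι F) *ᵥ (((a⁻¹ : GL ι F) : Matrix ι ι F) *ᵥ (u : ι → F)) = u
      rw [← hmul, mul_inv_cancel, Units.val_one, Matrix.one_mulVec]))
    (LinearMap.ext fun u => Subtype.ext (by
      show ((a⁻¹ : GL ι F) : Matrix ι ι F) *ᵥ ((a : Matrix ι ι F) *ᵥ (u : ι → F)) = u
      rw [← hmul, inv_mul_cancel, Units.val_one, Matrix.one_mulVec]))
  let X : W →ₗ[F] (ι → F) := (Matrix.mulVecLin (x : Matrix ι ι F)).comp W.subtype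
  have hXmem : ∀ u, X u ∈ residual b := fun u => by
    obtain ⟨v, hv⟩ := mem_residual.1 u.2
    show (x : Matrix ι ι F) *ᵥ (u : ι → F) ∈ residual b
    rw [← hv, Matrix.mulVec_sub, hxa]
    exact sub_mem_residual b _
  have hXsurj : ∀ w ∈ residual b, ∃ u : W, X u = w := fun w hw => by
    obtain ⟨v, rfl⟩ := mem_residual.1 hw
    refine ⟨⟨_, sub_mem_residual a (((x⁻¹ : GL ι F) : Matrix ι ι F) *ᵥ v)⟩, ?_⟩
    show (x : Matrix ι ι F) *ᵥ (_ - _) = _
    rw [Matrix.mulVec_sub, hxa, ← hmul, mul_inv_cancel, Units.val_one, Matrix.one_mulVec]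
  have hXinj : Function.Injective X := fun u v h =>
    Subtype.ext (Matrix.mulVec_injective_iff_isUnit.2 x.isUnit h)
  let β : LinearMap.BilinForm F W := (bform hQ).compl₁₂ W.subtype W.subtype
  let β' : LinearMap.BilinForm F W := (bform hQ).compl₁₂ X X
  obtain ⟨Y, hYA, hY⟩ := exists_centralizer_map_form β β' 1
    (fun u v => (b_symm hQ _ _).trans (one_mul _).symm) (fun u v => (b_symm hQ _ _).trans (one_mul _).symm)
    (fun u hu => Subtype.ext (hnd ha hk _ u.2 fun v hv => hu ⟨v, hv⟩))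
    (fun u hu => hXinj (by
      rw [map_zero]
      exact hnd hb hbk _ (hXmem u) fun w hw => by
        obtain ⟨v, rfl⟩ := hXsurj w hw
        exact hu v))
    A (fun u v => isometry_b hQ ha _ _)
    (fun u v => by
      show bform hQ ((x : Matrix ι ι F) *ᵥ ((a : Matrix ι ι F) *ᵥ (u : ι → F)))
        ((x : Matrix ι ι F) *ᵥ ((a : Matrix ι ι F) *ᵥ (v : ι → F))) = _
      rw [hxa, hxa, isometry_b hQ hb]; rfl)
    (fun u hu => by
      have h1 : (a : Matrix ι ι F) *ᵥ (u : ι → F) = ((a⁻¹ : GL ι F) : Matrix ι ι F) *ᵥ (u : ι → F) :=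
        congrArg Subtype.val hu
      have h2 : ((a * a : GL ι F) : Matrix ι ι F) *ᵥ (u : ι → F) = u := by
        rw [hmul, h1, ← hmul, mul_inv_cancel, Units.val_one, Matrix.one_mulVec]
      have h3 : ∀ j : ℕ, (((a * a) ^ j : GL ι F) : Matrix ι ι F) *ᵥ (u : ι → F) = u := fun j => by
        induction j with
        | zero => simp
        | succ j ih => rw [pow_succ, hmul, h2, ih]
      obtain ⟨j, hj⟩ := hodd
      refine Subtype.ext ((Submodule.mem_bot F).1 (fixedSpace_inf_residual hk hkF ▸ ⟨u.2, ?_⟩))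
      rw [SetLike.mem_coe, mem_fixedSpace]
      have h4 := congrArg (fun w => (a : Matrix ι ι F) *ᵥ w) (h3 j)
      rw [← hmul, ← sq, ← pow_mul, ← pow_succ', ← hj, hk, Units.val_one, Matrix.one_mulVec] at h4
      exact h4.symm)
  let φ : W →ₗ[F] (ι → F) := X.comp Y.toLinearMap
  have hφA : ∀ u : W, φ (A u) = (b : Matrix ι ι F) *ᵥ φ u := fun u => by
    show X (Y (A u)) = (b : Matrix ι ι F) *ᵥ X (Y u)
    rw [hYA]
    exact hxa _
  have hφq : ∀ u : W, Q (φ u) = Q (u : ι → F) := by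
    intro u
    let D : W →+ F := AddMonoidHom.mk' (fun u => Q (φ u) - Q (u : ι → F)) fun u v => by
      have hb' : bform hQ (φ u) (φ v) = bform hQ (u : ι → F) (v : ι → F) := hY u v
      rw [map_add, Submodule.coe_add, q_add hQ, q_add hQ, hb']
      ring
    have hDA : ∀ v, D (A v) = D v := fun v => by
      show Q (φ (A v)) - Q ((a : Matrix ι ι F) *ᵥ (v : ι → F)) = _
      rw [hφA, mem_isometryGroup.1 hb, mem_isometryGroup.1 ha]; rfl
    let T : W →ₗ[F] W := LinearMap.id - A.toLinearMap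
    have hT : Function.Surjective T := LinearMap.injective_iff_surjective.1 (LinearMap.ker_eq_bot.1
      (LinearMap.ker_eq_bot'.2 fun v hv => Subtype.ext ((Submodule.mem_bot F).1
        (fixedSpace_inf_residual hk hkF ▸ ⟨v.2, mem_fixedSpace.2 (congrArg Subtype.val (sub_eq_zero.1 hv)).symm⟩))))
    obtain ⟨v, rfl⟩ := hT u
    have : D (T v) = 0 := by
      show D (v - A v) = 0
      rw [map_sub, hDA, sub_self]
    exact sub_eq_zero.1 this
  obtain ⟨g, hg, hgx⟩ := CfsgLib.LinAlg.Witt.witt_quadFun hQ W φ (hXinj.comp Y.injective) hφq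
  refine ⟨g, hg, gl_ext fun v => ?_⟩
  have htop : W ⊔ fixedSpace a = ⊤ := by
    refine Submodule.eq_top_of_finrank_eq ?_
    have h1 := Submodule.finrank_sup_add_finrank_inf_eq W (fixedSpace a)
    rw [hW, fixedSpace_inf_residual hk hkF, finrank_bot, finrank_residual_add] at h1
    rw [finrank_fintype_fun_eq_card, hW]; omega
  obtain ⟨u, hu, f, hf, rfl⟩ := Submodule.mem_sup.1 (htop ▸ Submodule.mem_top : v ∈ W ⊔ fixedSpace a)
  have hgf : (g : Matrix ι ι F) *ᵥ f ∈ fixedSpace b := by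
    rw [fixedSpace_eq_perp hQ hb, mem_perp hQ]
    intro w hw
    obtain ⟨u', rfl⟩ := hXsurj w hw
    obtain ⟨u'', rfl⟩ := Y.surjective u'
    rw [show X (Y u'') = (g : Matrix ι ι F) *ᵥ (u'' : ι → F) from (hgx u'').symm, isometry_b hQ hg]
    rw [fixedSpace_eq_perp hQ ha] at hf
    exact (mem_perp hQ).1 hf _ u''.2
  rw [hmul, hmul, Matrix.mulVec_add, Matrix.mulVec_add, mem_fixedSpace.1 hf, Matrix.mulVec_add,
    Matrix.mulVec_add, mem_fixedSpace.1 hgf,
    show (a : Matrix ι ι F) *ᵥ u = ((A ⟨u, hu⟩ : W) : ι → F) from rfl, hgx, hgx ⟨u, hu⟩, hφA]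

end CfsgLib.Classical.Orth
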